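import Groth.Agent.EtLC12.ArtinSchreier
import Groth.Agent.EtLimit.HTools

/-!
# Artin–Schreier sequences and pullback
-/

set_option autoImplicit false
universe u

open CategoryTheory CategoryTheory.Limits AlgebraicGeometry Opposite CategoryTheory.Abelian

namespace Groth.Agent.PadicLef11

open Groth.Agent.EtLC12 Groth.Agent.EtLimit W4c5etcohweilstudent

set_option backward.isDefEq.respectTransparency false
set_option backward.isDefEq.respectTransparency.types false
set_option linter.style.haveILetI false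

variable {X Y : Scheme.{u}} (u : Y ⟶ X)

/-- restriction of functions, as a map out of the inverse image -/
noncomputable def gaP : (EtCoh.pull u).obj (EtCoh.Ga X) ⟶ EtCoh.Ga Y :=
  ((EtCoh.pullPushAdj u).homEquiv _ _).symm (EtLim.GaPush u)

variable (p : ℕ) [Fact p.Prime] (hX : (p : Γ(X, ⊤)) = 0) (hY : (p : Γ(Y, ⊤)) = 0)

theorem as_gaP : (EtCoh.pull u).map (ArtinSchreier.as p hX) ≫ gaP u = gaP u ≫ ArtinSchreier.as p hY := by
  apply ((EtCoh.pullPushAdj u).homEquiv _ _).injective
  rw [Adjunction.homEquiv_naturality_left, Adjunction.homEquiv_naturality_right, gaP, Equiv.apply_symm_apply]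
  refine Sheaf.hom_ext (NatTrans.ext (funext fun U => AddCommGrpCat.hom_ext (AddMonoidHom.ext fun x => ?_)))
  obtain ⟨x⟩ := x
  let g : Γ(U.unop.left, ⊤) →+* Γ(((EtCoh.bc u).obj U.unop).left, ⊤) :=
    ((NatTrans.op (EtLim.bcProj u)).app U |> Scheme.Γ.map).hom
  change Γ(U.unop.left, ⊤) at x
  refine congrArg ULift.up ?_
  show g (x ^ p - x) = g x ^ p - g x
  rw [map_sub, map_pow]

/-- the Artin–Schreier sequence -/
noncomputable abbrev asSC : ShortComplex (EtCoh.Ab X) :=
  ShortComplex.mk (kernel.ι (ArtinSchreier.as p hX)) (ArtinSchreier.as p hX) (kernel.condition _)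

/-- the map induced on kernels -/
noncomputable def kerP : (EtCoh.pull u).obj (kernel (ArtinSchreier.as p hX)) ⟶ kernel (ArtinSchreier.as p hY) :=
  kernel.lift _ ((EtCoh.pull u).map (kernel.ι _) ≫ gaP u) (by
    rw [Category.assoc, ← as_gaP u p hX hY, ← Category.assoc, ← Functor.map_comp, kernel.condition,
      Functor.map_zero, zero_comp])

theorem kerP_ι : kerP u p hX hY ≫ kernel.ι (ArtinSchreier.as p hY) =
    (EtCoh.pull u).map (kernel.ι (ArtinSchreier.as p hX)) ≫ gaP u := kernel.lift_ι _ _ _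

theorem constToGa_gaP : (EtCoh.pull u).map (ArtinSchreier.constToGa p hX) ≫ gaP u =
    (EtCore.pullConst u (ZMod p)).hom ≫ ArtinSchreier.constToGa p hY := by
  let A : AddCommGrpCat.{u + 1} := AddCommGrpCat.of (ULift.{u + 1} (ZMod p))
  apply (((EtCore.constAdj X).comp (EtCoh.pullPushAdj u)).homEquiv A (EtCoh.Ga Y)).injective
  have hR : ((EtCore.constAdj X).comp (EtCoh.pullPushAdj u)).homEquiv A (EtCoh.Ga Y)
        ((EtCore.pullConst u (ZMod p)).hom ≫ ArtinSchreier.constToGa p hY) =
      (EtCore.constAdj Y).homEquiv A (EtCoh.Ga Y) (ArtinSchreier.constToGa p hY) ≫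
        (EtCore.pushGsecIso u).inv.app (EtCoh.Ga Y) := by
    rw [Adjunction.homEquiv_naturality_right]
    have h1 := Adjunction.homEquiv_leftAdjointUniq_hom_app
      (((EtCore.constAdj X).comp (EtCoh.pullPushAdj u)).ofNatIsoRight (EtCore.pushGsecIso u)) (EtCore.constAdj Y) A
    have h3 : ((EtCore.constAdj X).comp (EtCoh.pullPushAdj u)).homEquiv A _ (EtCore.pullConst u (ZMod p)).hom =
        (EtCore.constAdj Y).unit.app A ≫ (EtCore.pushGsecIso u).inv.app _ := by
      rw [← h1, Adjunction.homEquiv_ofNatIsoRight_apply, Category.assoc, Iso.hom_inv_id_app]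
      exact (Category.comp_id _).symm
    rw [h3, Adjunction.homEquiv_unit, Category.assoc, Category.assoc]
    exact congrArg (_ ≫ ·) ((EtCore.pushGsecIso u).inv.naturality (ArtinSchreier.constToGa p hY)).symm
  rw [hR, Adjunction.comp_homEquiv]
  show (EtCore.constAdj X).homEquiv A _ ((EtCoh.pullPushAdj u).homEquiv _ _
    ((EtCoh.pull u).map (ArtinSchreier.constToGa p hX) ≫ gaP u)) = _
  rw [Adjunction.homEquiv_naturality_left, gaP, Equiv.apply_symm_apply, Adjunction.homEquiv_unit,
    Adjunction.homEquiv_unit]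
  refine AddCommGrpCat.hom_ext (AddMonoidHom.ext fun m => ?_)
  have eX : ∀ n : A, ((ArtinSchreier.constToGa p hX).hom.app (op (EtCoh.top X))).hom
      (((EtCore.constAdj X).unit.app A).hom n) = ULift.up
        (ArtinSchreier.φ p Γ((EtCoh.top X).left, ⊤) (natCast_eq_zero_etale p hX (EtCoh.top X)) n.down) :=
    fun n => congrArg (fun t => (t.app (op (EtCoh.top X))).hom n) (ArtinSchreier.toSheafify_constToGa p hX)
  have eY : ∀ n : A, ((ArtinSchreier.constToGa p hY).hom.app (op (EtCoh.top Y))).hom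
      (((EtCore.constAdj Y).unit.app A).hom n) = ULift.up
        (ArtinSchreier.φ p Γ((EtCoh.top Y).left, ⊤) (natCast_eq_zero_etale p hY (EtCoh.top Y)) n.down) :=
    fun n => congrArg (fun t => (t.app (op (EtCoh.top Y))).hom n) (ArtinSchreier.toSheafify_constToGa p hY)
  refine Eq.trans (congrArg ((EtLim.GaPush u).hom.app (op (EtCoh.top X))).hom (eX m)) ?_
  refine Eq.trans ?_ (congrArg ((EtCore.pushGsecIso u).inv.app (EtCoh.Ga Y)).hom (eY m)).symm
  refine congrArg ULift.up ?_
  exact (ArtinSchreier.map_φ p (Scheme.Γ.map ((NatTrans.op (EtLim.bcProj u)).app (op (EtCoh.top X)))).hom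
      (natCast_eq_zero_etale p hX (EtCoh.top X)) (natCast_eq_zero_etale p hY ((EtCoh.bc u).obj (EtCoh.top X))) m.down).trans
    (ArtinSchreier.map_φ p (Scheme.Γ.map ((Scheme.Etale.forget Y ⋙ Over.forget Y).op.map (EtCore.bcTopIso u).op.symm.inv)).hom
      (natCast_eq_zero_etale p hY (EtCoh.top Y)) (natCast_eq_zero_etale p hY ((EtCoh.bc u).obj (EtCoh.top X))) m.down).symm

theorem constToKer_kerP : (EtCoh.pull u).map (ArtinSchreier.constToKer p hX) ≫ kerP u p hX hY =
    (EtCore.pullConst u (ZMod p)).hom ≫ ArtinSchreier.constToKer p hY := by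
  rw [← cancel_mono (kernel.ι (ArtinSchreier.as p hY)), Category.assoc, Category.assoc, kerP_ι, ← Category.assoc,
    ← Functor.map_comp]
  rw [ArtinSchreier.constToKer, ArtinSchreier.constToKer, kernel.lift_ι, kernel.lift_ι]
  exact constToGa_gaP u p hX hY

variable [PreservesFiniteLimits (EtCoh.pull u)]

/-- pullback of `G_a` classes -/
noncomputable abbrev aq (q : ℕ) : EtCoh.H X (EtCoh.Ga X) q →+ EtCoh.H Y (EtCoh.Ga Y) q :=
  hThen u (EtCoh.Ga X) (gaP u) q

include hX hY in
/-- Pullback on cohomology of `ℤ/p` from the pullback of global functions and vanishing of higher `G_a`. -/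
theorem Hpull_const_zmod (d : ℕ) (ha : Function.Bijective (aq u 0))
    (hXv : ∀ q, 1 ≤ q → q ≤ d + 1 → Subsingleton (EtCoh.H X (EtCoh.Ga X) q))
    (hYv : ∀ q, 1 ≤ q → q ≤ d → Subsingleton (EtCoh.H Y (EtCoh.Ga Y) q)) :
    (∀ q, q ≤ d → Function.Bijective (EtCore.Hpull u (EtCoh.const X (ZMod p)) q)) ∧
      Function.Injective (EtCore.Hpull u (EtCoh.const X (ZMod p)) (d + 1)) := by
  have hSX := ArtinSchreier.shortExact_kernel (X := X) p hX
  have hSY := ArtinSchreier.shortExact_kernel (X := Y) p hY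
  let T := fun q => hThen u (kernel (ArtinSchreier.as p hX)) (kerP u p hX hY) q
  have hι : ∀ q x, aq u q (hmap (kernel.ι (ArtinSchreier.as p hX)) q x) =
      hmap (kernel.ι (ArtinSchreier.as p hY)) q (T q x) := fun q x =>
    HpullThen_hmap u (kerP u p hX hY) (gaP u) _ _ (kerP_ι u p hX hY).symm q x
  have has : ∀ q x, aq u q (hmap (ArtinSchreier.as p hX) q x) = hmap (ArtinSchreier.as p hY) q (aq u q x) :=
    fun q x => HpullThen_hmap u (gaP u) (gaP u) _ _ (as_gaP u p hX hY) q x
  have hd : ∀ q x, T (q + 1) (hδ hSX rfl x) = hδ hSY rfl (aq u q x) := fun q x =>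
    HpullThen_hδ u hSX hSY (kerP u p hX hY) (gaP u) (gaP u) (kerP_ι u p hX hY) (as_gaP u p hX hY).symm rfl x
  have key : ∀ q, q ≤ d + 1 → Function.Injective (T q) ∧ (q ≤ d → Function.Surjective (T q)) := by
    intro q hq
    obtain _ | q := q
    · have hi : Function.Injective (T 0) := fun a b hab => hmap_zero_injective _ (ha.1 (by
        rw [hι, hι, hab]))
      refine ⟨hi, fun _ y => ?_⟩
      obtain ⟨x, hx⟩ := ha.2 (hmap (kernel.ι (ArtinSchreier.as p hY)) 0 y)
      have hx0 : hmap (ArtinSchreier.as p hX) 0 x = 0 := ha.1 (by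
        rw [map_zero, has, hx]
        show Ext.comp (Ext.comp y (Ext.mk₀ _) (add_zero 0)) (Ext.mk₀ _) (add_zero 0) = 0
        rw [Ext.comp_assoc_of_third_deg_zero, Ext.mk₀_comp_mk₀, kernel.condition, Ext.mk₀_zero, Ext.comp_zero])
      obtain ⟨x', hx'⟩ := Ext.covariant_sequence_exact₂ _ hSX x hx0
      exact ⟨x', hmap_zero_injective _ ((hι 0 x').symm.trans ((congrArg _ hx').trans hx))⟩
    · refine ⟨(injective_iff_map_eq_zero _).2 fun x hx => ?_, fun hq' y => ?_⟩
      · obtain ⟨z, rfl⟩ := Ext.covariant_sequence_exact₁ _ hSX x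
          (@Subsingleton.elim _ (hXv (q + 1) (by omega) hq) _ _) (rfl : q + 1 = q + 1)
        obtain _ | r := q
        · obtain ⟨w, hw⟩ := Ext.covariant_sequence_exact₃ _ hSY (aq u 0 z) rfl ((hd 0 z).symm.trans hx)
          obtain ⟨w', rfl⟩ := ha.2 w
          have : hmap (ArtinSchreier.as p hX) 0 w' = z := ha.1 ((has 0 w').trans hw)
          rw [← this]
          exact hδ_hmap_g hSX rfl w'
        · rw [@Subsingleton.elim _ (hXv (r + 1) (by omega) (by omega)) z 0, Ext.zero_comp]
      · obtain ⟨z, rfl⟩ := Ext.covariant_sequence_exact₁ _ hSY y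
          (@Subsingleton.elim _ (hYv (q + 1) (by omega) hq') _ _) (rfl : q + 1 = q + 1)
        obtain _ | r := q
        · obtain ⟨z', rfl⟩ := ha.2 z
          exact ⟨hδ hSX rfl z', hd 0 z'⟩
        · rw [@Subsingleton.elim _ (hYv (r + 1) (by omega) (by omega)) z 0, Ext.zero_comp]
          exact ⟨0, map_zero _⟩
  have tr : ∀ q, (Function.Injective (T q) → Function.Injective (EtCore.Hpull u (EtCoh.const X (ZMod p)) q)) ∧
      (Function.Surjective (T q) → Function.Surjective (EtCore.Hpull u (EtCoh.const X (ZMod p)) q)) := by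
    intro q
    let eX := ((EtCoh.HF X q).mapIso (asIso (ArtinSchreier.constToKer (X := X) p hX))).addCommGroupIsoToAddEquiv
    let eY := ((EtCoh.HF Y q).mapIso (EtCore.pullConst u (ZMod p) ≪≫
      asIso (ArtinSchreier.constToKer (X := Y) p hY))).addCommGroupIsoToAddEquiv
    have h : ∀ x, T q (eX x) = eY (EtCore.Hpull u (EtCoh.const X (ZMod p)) q x) := fun x =>
      (HpullThen_natural u ((EtCore.pullConst u (ZMod p)).hom ≫ ArtinSchreier.constToKer p hY) (kerP u p hX hY)
        (ArtinSchreier.constToKer p hX) (𝟙 _) ((constToKer_kerP u p hX hY).trans (Category.comp_id _).symm) q x).trans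
        (Ext.comp_mk₀_id _)
    refine ⟨fun hi a b hab => eX.injective (hi (by rw [h, h, hab])), fun hs y => ?_⟩
    obtain ⟨x, hx⟩ := hs (eY y)
    obtain ⟨x', rfl⟩ := eX.surjective x
    exact ⟨x', eY.injective ((h x').symm.trans hx)⟩
  exact ⟨fun q hq => ⟨(tr q).1 (key q (by omega)).1, (tr q).2 ((key q (by omega)).2 hq)⟩, (tr (d + 1)).1 (key _ le_rfl).1⟩

end Groth.Agent.PadicLef11
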