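import Groth.Agent.PadicLef11.ASPull
import Groth.Agent.EtDev.GaKernel
import Groth.Agent.EtLimit.GlobalUse
import Groth.Agent.QCoh.OpenSub
import Groth.Agent.EtFound.LocalizedCoh
import Groth.Agent.BigSiteLib.HofPushEt
import Groth.Agent.EtFound.PushExact
import Groth.Agent.CohCrit13.Formal
import Groth.Agent.Lib.CurveTensor
import Groth.Prelude.Def_ClSub2

/-!
# `G_a`-classes and restriction to a closed subscheme
-/

set_option autoImplicit false
set_option linter.style.haveILetI false
set_option backward.isDefEq.respectTransparency false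
set_option backward.isDefEq.respectTransparency.types false
set_option maxHeartbeats 1000000

universe u

open CategoryTheory CategoryTheory.Limits AlgebraicGeometry Opposite CategoryTheory.Abelian TopologicalSpace

namespace Groth.Agent.PadicLef11

open Groth.Agent.EtLC12 Groth.Agent.EtFound

variable {X : Scheme.{u}} (I : X.IdealSheafData)

theorem ηO_eq : EtDev.ηO I.subschemeι = ClSub.toSubscheme I :=
  Scheme.Modules.hom_ext _ _ fun U => by
    ext a
    rfl

theorem subsingleton_H_GaKer (q : ℕ) (h : Subsingleton (Coh.HH X (ClSub.idealMod I) q)) :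
    Subsingleton (EtCoh.H X (EtDev.GaKer I.subschemeι) q) := by
  haveI := EtZarCompare.zarCont X
  obtain ⟨e⟩ := EtDev.nonempty_resZar_iso I.subschemeι
  obtain ⟨e₁⟩ := EtZarCompare.nonempty_H_addEquiv (EtDev.GaKer I.subschemeι) (EtDev.isAffAcyclic_GaKer _) q
  obtain ⟨e₂⟩ := ZarLift.nonempty_H_addEquiv (X := X) (Coh.toAb (kernel (EtDev.ηO I.subschemeι))) q
  haveI : Subsingleton (Coh.HH X (kernel (EtDev.ηO I.subschemeι)) q) :=
    Groth.Agent.QCoh.subsingleton_HH_of_iso (kernelIsoOfEq (ηO_eq I).symm) q h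
  exact ((e₁.trans ((Sheaf.functorH _ q).mapIso e).addCommGroupIsoToAddEquiv).trans e₂.symm).toEquiv.subsingleton

theorem epi_GaPush : Epi (EtLim.GaPush I.subschemeι) := by
  refine (Sheaf.isLocallySurjective_iff_epi' AddCommGrpCat.{u + 1} _).1 ⟨fun {U} s => ?_⟩
  rw [mem_topology_iff]
  intro x
  obtain ⟨V, a, hV, v, hv⟩ := exists_affine_cover_hom U x
  obtain ⟨z, hz⟩ := EtDev.GaPush_surjective I.subschemeι V hV
    (((EtCoh.push I.subschemeι).obj (EtCoh.Ga I.subscheme)).obj.map a.op s)
  exact ⟨V, a, v, ⟨z, hz⟩, hv⟩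

variable [PreservesFiniteLimits (EtCoh.pull I.subschemeι)]

theorem aq_eq (q : ℕ) (x : EtCoh.H X (EtCoh.Ga X) q) : aq I.subschemeι q x =
    EtLim.HofPush I.subschemeι (EtCoh.Ga I.subscheme) q (EtLimit.hmap (EtLim.GaPush I.subschemeι) q x) :=
  (EtLimit.HofPush_hmap I.subschemeι (EtLim.GaPush I.subschemeι) q x).symm

theorem hofPush_bij (q : ℕ) : Function.Bijective (EtLim.HofPush I.subschemeι (EtCoh.Ga I.subscheme) q) := by
  refine BigSiteLib.hofPush_bijective I.subschemeι _ (fun j hj => ?_) q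
  obtain ⟨m, rfl⟩ := Nat.exists_eq_succ_of_ne_zero hj.ne'
  haveI := EtFound.push_preservesFiniteLimits I.subschemeι
  haveI := EtFound.push_preservesFiniteColimits I.subschemeι
  exact LerayDegen.isZero_rightDerived_of_exact (EtCoh.push I.subschemeι) _ m

theorem aq_injective (q : ℕ) (h : Subsingleton (Coh.HH X (ClSub.idealMod I) q)) :
    Function.Injective (aq I.subschemeι q) := by
  haveI := epi_GaPush I
  let S := ShortComplex.mk (kernel.ι (EtLim.GaPush I.subschemeι)) (EtLim.GaPush I.subschemeι) (kernel.condition _)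
  have hS : S.ShortExact := { exact := ShortComplex.exact_of_f_is_kernel _ (kernelIsKernel _) }
  refine (injective_iff_map_eq_zero _).2 fun x hx => ?_
  rw [aq_eq] at hx
  obtain ⟨a, rfl⟩ := EtLimit.exists_hmap_of_hmap_eq_zero hS q x
    ((hofPush_bij I q).1 (hx.trans (map_zero _).symm))
  haveI : Subsingleton (EtCoh.H X S.X₁ q) := subsingleton_H_GaKer I q h
  rw [Subsingleton.elim a 0, map_zero]

theorem aq_surjective (q : ℕ) (h : Subsingleton (Coh.HH X (ClSub.idealMod I) (q + 1))) :
    Function.Surjective (aq I.subschemeι q) := by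
  haveI := epi_GaPush I
  let S := ShortComplex.mk (kernel.ι (EtLim.GaPush I.subschemeι)) (EtLim.GaPush I.subschemeι) (kernel.condition _)
  have hS : S.ShortExact := { exact := ShortComplex.exact_of_f_is_kernel _ (kernelIsKernel _) }
  intro y
  obtain ⟨z, rfl⟩ := (hofPush_bij I q).2 y
  haveI : Subsingleton (EtCoh.H X S.X₁ (q + 1)) := subsingleton_H_GaKer I (q + 1) h
  obtain ⟨x, hx⟩ := EtLimit.exists_hmap_of_hδ_eq_zero hS (rfl : q + 1 = q + 1) z (Subsingleton.elim _ _)
  exact ⟨x, by rw [aq_eq]; exact congrArg _ hx⟩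

end Groth.Agent.PadicLef11
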