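import Groth.Agent.EtLimit.HTools
import Groth.Agent.SiteBase.ConstExact
import Mathlib.Algebra.Category.Grp.EpiMono
import Mathlib.Algebra.Homology.ShortComplex.Ab
import Mathlib.Algebra.Homology.ShortComplex.ExactFunctor
import Mathlib.Data.ZMod.Basic

/-!
# From `ℤ/p` to `ℤ/p^m` for pullback on cohomology
-/

set_option autoImplicit false
universe u

open CategoryTheory CategoryTheory.Limits AlgebraicGeometry Opposite CategoryTheory.Abelian

namespace Groth.Agent.PadicLef11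

set_option backward.isDefEq.respectTransparency false
set_option backward.isDefEq.respectTransparency.types false
set_option linter.style.haveILetI false

variable {X Y : Scheme.{u}} (u : Y ⟶ X) [PreservesFiniteLimits (EtCoh.pull u)]

/-- bijective up to `d`, injective in degree `d + 1` -/
def Good (d : ℕ) (F : EtCoh.Ab X) : Prop :=
  (∀ q, q ≤ d → Function.Bijective (EtCore.Hpull u F q)) ∧ Function.Injective (EtCore.Hpull u F (d + 1))

theorem good_of_shortExact {S : ShortComplex (EtCoh.Ab X)} (hS : S.ShortExact) (d : ℕ)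
    (h1 : Good u d S.X₁) (h3 : Good u d S.X₃) : Good u d S.X₂ := by
  have hT := hS.map_of_exact (EtCoh.pull u)
  have hf : ∀ q x, EtCore.Hpull u S.X₂ q (Ext.comp x (Ext.mk₀ S.f) (add_zero q)) =
      (EtCore.Hpull u S.X₁ q x).comp (Ext.mk₀ ((EtCoh.pull u).map S.f)) (add_zero q) :=
    fun q x => EtLimit.Hpull_comp_mk₀ u S.f q x
  have hg : ∀ q x, EtCore.Hpull u S.X₃ q (Ext.comp x (Ext.mk₀ S.g) (add_zero q)) =
      (EtCore.Hpull u S.X₂ q x).comp (Ext.mk₀ ((EtCoh.pull u).map S.g)) (add_zero q) :=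
    fun q x => EtLimit.Hpull_comp_mk₀ u S.g q x
  have hδ : ∀ q (x : EtCoh.H X S.X₃ q), EtCore.Hpull u S.X₁ (q + 1) (x.comp hS.extClass rfl) =
      (EtCore.Hpull u S.X₃ q x).comp hT.extClass rfl := by
    intro q x
    have h := EtLimit.HpullThen_extClass u hS hT (𝟙 _) (𝟙 _) (𝟙 _) (by simp) (by simp) (rfl : q + 1 = q + 1) x
    rwa [EtLimit.HpullThen_apply, EtLimit.HpullThen_apply, Ext.comp_mk₀_id, Ext.comp_mk₀_id] at h
  have hi1 : ∀ q, q ≤ d + 1 → Function.Injective (EtCore.Hpull u S.X₁ q) := fun q hq => by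
    rcases Nat.lt_or_eq_of_le hq with h | rfl
    · exact (h1.1 q (by omega)).1
    · exact h1.2
  have hi3 : ∀ q, q ≤ d + 1 → Function.Injective (EtCore.Hpull u S.X₃ q) := fun q hq => by
    rcases Nat.lt_or_eq_of_le hq with h | rfl
    · exact (h3.1 q (by omega)).1
    · exact h3.2
  have inj : ∀ q, q ≤ d + 1 → Function.Injective (EtCore.Hpull u S.X₂ q) := by
    intro q hq
    refine (injective_iff_map_eq_zero _).2 fun x hx => ?_
    have h0 : x.comp (Ext.mk₀ S.g) (add_zero q) = 0 := hi3 q hq (by rw [map_zero, hg, hx, Ext.zero_comp])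
    obtain ⟨y, rfl⟩ := Ext.covariant_sequence_exact₂ _ hS x h0
    have hy : (EtCore.Hpull u S.X₁ q y).comp (Ext.mk₀ (S.map (EtCoh.pull u)).f) (add_zero q) = 0 :=
      (hf q y).symm.trans hx
    obtain _ | r := q
    · haveI := hS.mono_f
      haveI := hT.mono_f
      have h2 : EtCore.Hpull u S.X₁ 0 y = 0 :=
        EtLimit.hmap_zero_injective (S.map (EtCoh.pull u)).f (hy.trans (map_zero (EtLimit.hmap (S.map (EtCoh.pull u)).f 0)).symm)
      rw [hi1 0 hq (h2.trans (map_zero _).symm), Ext.zero_comp]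
    · obtain ⟨z, hz⟩ := Ext.covariant_sequence_exact₁ _ hT _ hy (rfl : r + 1 = r + 1)
      obtain ⟨z', rfl⟩ := (h3.1 r (by omega)).2 z
      rw [← hi1 (r + 1) hq ((hδ r z').trans hz), Ext.comp_assoc_of_third_deg_zero, hS.extClass_comp, Ext.comp_zero]
  refine ⟨fun q hq => ⟨inj q (by omega), fun y => ?_⟩, inj _ le_rfl⟩
  obtain ⟨z, hz⟩ := (h3.1 q hq).2 (y.comp (Ext.mk₀ ((EtCoh.pull u).map S.g)) (add_zero q))
  have hz0 : z.comp hS.extClass (rfl : q + 1 = q + 1) = 0 := hi1 (q + 1) (by omega) (by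
    rw [map_zero, hδ q z, hz, Ext.comp_assoc_of_second_deg_zero]
    exact (congrArg (fun t => Ext.comp y t _) hT.comp_extClass).trans (Ext.comp_zero _ _ _ _ _))
  obtain ⟨x, rfl⟩ := Ext.covariant_sequence_exact₃ _ hS z rfl hz0
  have hd0 : (y - EtCore.Hpull u S.X₂ q x).comp (Ext.mk₀ ((EtCoh.pull u).map S.g)) (add_zero q) = 0 := by
    rw [sub_eq_add_neg, Ext.add_comp, Ext.neg_comp, ← hg q x, hz, add_neg_cancel]
  obtain ⟨w, hw⟩ := Ext.covariant_sequence_exact₂ _ hT (y - EtCore.Hpull u S.X₂ q x) hd0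
  obtain ⟨w', rfl⟩ := (h1.1 q hq).2 w
  refine ⟨x + w'.comp (Ext.mk₀ S.f) (add_zero q), ?_⟩
  rw [map_add, hf]
  exact (congrArg (fun t : EtCoh.H Y ((EtCoh.pull u).obj S.X₂) q => EtCore.Hpull u S.X₂ q x + t) hw).trans (add_sub_cancel _ _)

/-- `0 → ℤ/a → ℤ/ab → ℤ/b → 0` with constant coefficients -/
theorem exists_const_ses (a b : ℕ) (hb : b ≠ 0) : ∃ S : ShortComplex (EtCoh.Ab X), S.ShortExact ∧
    S.X₁ = EtCoh.const X (ZMod a) ∧ S.X₂ = EtCoh.const X (ZMod (a * b)) ∧ S.X₃ = EtCoh.const X (ZMod b) := by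
  let φ : ZMod a →+ ZMod (a * b) :=
    ZMod.lift a ⟨(Int.castAddHom (ZMod (a * b))).comp (AddMonoidHom.mulLeft (b : ℤ)), by
      show (((b : ℤ) * (a : ℤ) : ℤ) : ZMod (a * b)) = 0
      rw [ZMod.intCast_zmod_eq_zero_iff_dvd, mul_comm (b : ℤ)]
      push_cast
      exact dvd_rfl⟩
  have hφ : ∀ t : ℤ, φ (t : ZMod a) = (((b : ℤ) * t : ℤ) : ZMod (a * b)) := fun t => ZMod.lift_coe _ _ t
  let ψ : ZMod (a * b) →+ ZMod b := (ZMod.castHom (dvd_mul_left b a) (ZMod b)).toAddMonoidHom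
  have hψ : ∀ t : ℤ, ψ (t : ZMod (a * b)) = (t : ZMod b) := fun t => map_intCast (ZMod.castHom (dvd_mul_left b a) (ZMod b)) t
  have hinj : Function.Injective φ := by
    refine (injective_iff_map_eq_zero _).2 fun x hx => ?_
    obtain ⟨t, rfl⟩ := ZMod.intCast_surjective x
    rw [hφ, ZMod.intCast_zmod_eq_zero_iff_dvd, Nat.cast_mul, mul_comm (a : ℤ)] at hx
    rw [ZMod.intCast_zmod_eq_zero_iff_dvd]
    exact (mul_dvd_mul_iff_left (by exact_mod_cast hb)).1 hx
  have hsur : Function.Surjective ψ := fun x => by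
    obtain ⟨t, rfl⟩ := ZMod.intCast_surjective x
    exact ⟨t, hψ t⟩
  let L : ∀ {M N : Type}, [AddCommGroup M] → [AddCommGroup N] → (M →+ N) →
      (AddCommGrpCat.of (ULift.{u + 1} M) ⟶ AddCommGrpCat.of (ULift.{u + 1} N)) :=
    fun g => AddCommGrpCat.ofHom (AddEquiv.ulift.symm.toAddMonoidHom.comp (g.comp AddEquiv.ulift.toAddMonoidHom))
  let T : ShortComplex AddCommGrpCat.{u + 1} := ShortComplex.mk (L φ) (L ψ) (by
    refine AddCommGrpCat.hom_ext (AddMonoidHom.ext fun x => ?_)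
    obtain ⟨x⟩ := x
    obtain ⟨t, rfl⟩ := ZMod.intCast_surjective x
    refine congrArg ULift.up ?_
    show ψ (φ (t : ZMod a)) = 0
    rw [hφ, hψ, ZMod.intCast_zmod_eq_zero_iff_dvd]
    exact dvd_mul_right _ _)
  have hT : T.ShortExact :=
    { exact := by
        rw [ShortComplex.ab_exact_iff]
        rintro ⟨x⟩ hx
        obtain ⟨t, rfl⟩ := ZMod.intCast_surjective x
        have hx' : ψ (t : ZMod (a * b)) = 0 := congrArg ULift.down hx
        rw [hψ, ZMod.intCast_zmod_eq_zero_iff_dvd] at hx'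
        obtain ⟨s, rfl⟩ := hx'
        exact ⟨ULift.up (s : ZMod a), congrArg ULift.up (hφ s)⟩
      mono_f := (AddCommGrpCat.mono_iff_injective _).2 fun x y h =>
        ULift.down_injective (hinj (congrArg ULift.down h))
      epi_g := (AddCommGrpCat.epi_iff_surjective _).2 fun x => by
        obtain ⟨y, hy⟩ := hsur x.down
        exact ⟨ULift.up y, congrArg ULift.up hy⟩ }
  let C := constantSheaf X.smallEtaleTopology AddCommGrpCat.{u + 1}
  haveI : PreservesFiniteLimits C := comp_preservesFiniteLimits _ _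
  haveI : PreservesColimitsOfSize.{0, 0} C := (EtCore.constAdj X).leftAdjoint_preservesColimits
  haveI : PreservesFiniteColimits C := ⟨fun _ => inferInstance⟩
  haveI : C.Additive := Functor.additive_of_preserves_binary_products _
  exact ⟨T.map C, hT.map_of_exact C, rfl, rfl, rfl⟩

theorem good_zmod_pow (p : ℕ) (hp : p ≠ 0) (d : ℕ) (h : Good u d (EtCoh.const X (ZMod p))) :
    ∀ m : ℕ, 1 ≤ m → Good u d (EtCoh.const X (ZMod (p ^ m))) := by
  intro m hm
  induction m, hm using Nat.le_induction with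
  | base => rwa [pow_one]
  | succ m _ ih =>
    obtain ⟨S, hS, h1, h2, h3⟩ := exists_const_ses (X := X) p (p ^ m) (pow_ne_zero m hp)
    rw [pow_succ', ← h2]
    exact good_of_shortExact u hS d (h1 ▸ h) (h3 ▸ ih)

end Groth.Agent.PadicLef11
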