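import Groth.Agent.PadicLef11.ASPull
import Groth.Agent.PadicLef11.ZModPow
import Groth.Agent.GrLib8.CICoh.Connected
import Groth.Agent.GrLib8.CICoh.Equidim
import Groth.Agent.GaLin11.GaLin
import Groth.Agent.VarDim.Scheme
import Groth.Agent.VarDim.Top
import Groth.Agent.FibDim.Minimal
import Groth.Agent.S2768
import Groth.Agent.PnCoh.Unit

/-!
# `p`-adic Lefschetz for smooth complete intersections: the inputs
-/

set_option autoImplicit false
set_option linter.style.haveILetI false
set_option linter.unusedSectionVars false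
set_option backward.isDefEq.respectTransparency false
set_option backward.isDefEq.respectTransparency.types false
set_option maxHeartbeats 1000000

universe u

open CategoryTheory CategoryTheory.Limits AlgebraicGeometry TopologicalSpace Opposite MvPolynomial CategoryTheory.Abelian
open Groth.Agent.GrLib8.CICoh Groth.Agent.VarDim Groth.Agent.VarDim.ProjN

namespace Groth.Agent.PadicLef11

variable {k : Type u} [Field k]

theorem dim_le_of_smooth {X : Scheme.{u}} (f : X ⟶ Spec (CommRingCat.of k)) (n : ℕ)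
    [SmoothOfRelativeDimension n f] [QuasiCompact f] : topologicalKrullDim ↥X ≤ ((n : ℕ∞) : WithBot ℕ∞) := by
  haveI : Smooth f := SmoothOfRelativeDimension.smooth n f
  haveI : LocallyOfFiniteType f := inferInstance
  rw [VarDim.topologicalKrullDim_eq_iSup_deg f]
  refine iSup_le fun x => ?_
  have h1 := FibDim.rd_le_fibreDimAt f (specializes_refl x) rfl
  rw [S2768.result n f x] at h1
  have h3 : (VarDim.deg f x : Cardinal) = FibDim.rd f x := by
    rw [FibDim.rd_eq_rdeg, ← VarDim.tdeg_eq_rdeg f x, ← VarDim.deg_eq_tdeg f x]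
  rw [show VarDim.deg f x = FibDim.rd f x by exact_mod_cast h3]
  exact h1

variable {N c : ℕ} {a : Fin c → ℕ} (G : ∀ j : Fin c, LefPen.Form N k (a j))

theorem dim_eq (hc : c ≤ N) (ha : ∀ j, 1 ≤ a j)
    [SmoothOfRelativeDimension (N - c) ((LefPen.ciIdeal G).subschemeι ≫ CohB1.ProjSpace.toSpec N k)] :
    topologicalKrullDim ↥(LefPen.ciIdeal G).subscheme = ((N - c : ℕ) : WithBot ℕ∞) := by
  haveI : IsProper (CohB1.ProjSpace.toSpec N k) := PnCoh.Chow.isProper_toSpec.{u} N k
  refine le_antisymm (le_trans (dim_le_of_smooth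
    ((LefPen.ciIdeal G).subschemeι ≫ CohB1.ProjSpace.toSpec N k) (N - c)) (by norm_cast)) ?_
  have hsupp : topologicalKrullDim ((LefPen.ciIdeal G).support : Set (CohB1.ProjSpace N k)) =
      topologicalKrullDim ↥(LefPen.ciIdeal G).subscheme := by
    rw [← (LefPen.ciIdeal G).range_subschemeι]
    exact ((LefPen.ciIdeal G).subschemeι.isClosedEmbedding.isEmbedding.toHomeomorph).isHomeomorph.topologicalKrullDim_eq.symm
  rw [← hsupp]
  haveI : (vertex k N).IsPrime := vertex_isMaximal.isPrime
  obtain ⟨Q, hQ, -⟩ := Ideal.exists_minimalPrimes_le (I := Ideal.ofList (forms G)) (J := vertex k N)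
    (Ideal.span_le.2 fun g hg => by
      obtain ⟨j, rfl⟩ := mem_forms G hg
      show constantCoeff (G j : MvPolynomial (Fin (N + 1)) k) = 0
      rw [constantCoeff_eq]
      refine MvPolynomial.IsHomogeneous.coeff_eq_zero (G j).2 ?_
      simpa using (Nat.one_le_iff_ne_zero.1 (ha j)).symm)
  have hh := height_le_of_minimal G hQ
  have hv : Q ≠ vertex k N := by
    rintro rfl
    rw [height_vertex] at hh
    have : N + 1 ≤ c := by exact_mod_cast hh
    omega
  obtain ⟨x, hx⟩ := exists_point_minimal (isHomogeneous_forms G) hQ hv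
  have hmem : x ∈ ((LefPen.ciIdeal G).support : Set (CohB1.ProjSpace N k)) :=
    mem_of_support G fun j => hx ▸ hQ.1.2 (Ideal.subset_span (List.mem_ofFn.2 ⟨j, rfl⟩))
  refine le_trans ?_ (le_topologicalKrullDim (LefPen.ciIdeal G).support.isClosed hmem)
  have h4 := height_add_coheight_pp (pp x)
  rw [coheight_pp_eq, ← PrimeSpectrum.height_eq_orderHeight, hx] at h4
  generalize Q.height = e at h4 hh
  cases e with
  | top => simp at hh
  | coe e =>
    have h4' : e + (pdim x + 1) = N + 1 := by exact_mod_cast h4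
    have h5' : e ≤ c := by exact_mod_cast hh
    exact_mod_cast (by omega : N - c ≤ pdim x)

section Ga

variable {X Y : Scheme.{u}} (u : Y ⟶ X)

theorem bijective_GaPush_top (hu : Function.Bijective u.appTop) :
    Function.Bijective ((EtLim.GaPush u).hom.app (op (EtCoh.top X))).hom := by
  let p : ((EtCoh.bc u).obj (EtCoh.top X)).left ⟶ X := (EtLim.bcProj u).app (EtCoh.top X)
  have hp : Function.Bijective p.appTop := by
    haveI : IsIso (pullback.snd (𝟙 X) u) := inferInstance
    have e : pullback.fst (𝟙 X) u = pullback.snd (𝟙 X) u ≫ u := by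
      rw [← pullback.condition, Category.comp_id]
    show Function.Bijective (pullback.fst (𝟙 X) u).appTop
    rw [e, Scheme.Hom.comp_appTop]
    exact (ConcreteCategory.bijective_of_isIso (pullback.snd (𝟙 X) u).appTop).comp hu
  refine ⟨fun x y h => ULift.down_injective (hp.1 (ULift.up_injective h)), fun y => ?_⟩
  obtain ⟨x, hx⟩ := hp.2 (ULift.down y)
  exact ⟨ULift.up x, ULift.down_injective hx⟩

theorem aq_zero_bijective [PreservesFiniteLimits (EtCoh.pull u)] (hu : Function.Bijective u.appTop) :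
    Function.Bijective (aq u 0) := by
  let A : AddCommGrpCat.{u + 1} := AddCommGrpCat.of (ULift.{u + 1} ℤ)
  let e0 : (EtCoh.const X ℤ ⟶ EtCoh.Ga X) ≃ EtCoh.H X (EtCoh.Ga X) 0 := Ext.addEquiv₀.symm.toEquiv
  let e1 : (EtCoh.const Y ℤ ⟶ EtCoh.Ga Y) ≃ EtCoh.H Y (EtCoh.Ga Y) 0 := Ext.addEquiv₀.symm.toEquiv
  have key : ∀ h, aq u 0 (e0 h) = e1 ((EtCore.pullConst u ℤ).inv ≫
      ((EtCoh.pullPushAdj u).homEquiv _ _).symm (h ≫ EtLim.GaPush u)) := fun h => by
    show Ext.comp ((Ext.mk₀ (EtCore.pullConst u ℤ).inv).comp ((EtCoh.pull u).mapExtAddHom _ _ 0 (Ext.mk₀ h))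
      (zero_add 0)) (Ext.mk₀ (gaP u)) (add_zero 0) = Ext.mk₀ _
    rw [Functor.mapExtAddHom_apply, Ext.mapExactFunctor_mk₀, Ext.mk₀_comp_mk₀, Ext.mk₀_comp_mk₀,
      Adjunction.homEquiv_naturality_left_symm, Category.assoc]
    rfl
  have hpost : Function.Bijective (fun h : EtCoh.const X ℤ ⟶ EtCoh.Ga X => h ≫ EtLim.GaPush u) := by
    have hG := bijective_GaPush_top u hu
    haveI : IsIso ((EtLim.GaPush u).hom.app (op (EtCoh.top X))) :=
      (ConcreteCategory.isIso_iff_bijective _).2 hG
    let c1 := (EtCore.constAdj X).homEquiv A (EtCoh.Ga X)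
    let c2 := (EtCore.constAdj X).homEquiv A ((EtCoh.push u).obj (EtCoh.Ga Y))
    have hc : (fun h : EtCoh.const X ℤ ⟶ EtCoh.Ga X => h ≫ EtLim.GaPush u) =
        c2.symm ∘ (fun g => g ≫ (EtLim.GaPush u).hom.app (op (EtCoh.top X))) ∘ c1 := funext fun h =>
      c2.injective ((Adjunction.homEquiv_naturality_right _ _ _).trans (c2.apply_symm_apply _).symm)
    rw [hc]
    exact c2.symm.bijective.comp
      ((Iso.homToEquiv (Z := A) (asIso ((EtLim.GaPush u).hom.app (op (EtCoh.top X))))).bijective.comp c1.bijective)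
  have : aq u 0 ∘ e0 = e1 ∘ (fun g => (EtCore.pullConst u ℤ).inv ≫ g) ∘
      ((EtCoh.pullPushAdj u).homEquiv _ _).symm ∘ (fun h => h ≫ EtLim.GaPush u) := funext key
  have h2 : Function.Bijective (aq u 0 ∘ e0) := this ▸ e1.bijective.comp
    ((EtCore.pullConst u ℤ).homFromEquiv.bijective.comp (((EtCoh.pullPushAdj u).homEquiv _ _).symm.bijective.comp hpost))
  exact Function.Bijective.of_comp_iff _ e0.bijective |>.1 h2

end Ga

theorem subsingleton_H_Ga {X : Scheme.{u}} (n : ℕ) (h : Subsingleton (Coh.HH X (Coh.structureModule X) n)) :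
    Subsingleton (EtCoh.H X (EtCoh.Ga X) n) := by
  haveI := EtLC12.EtZarCompare.zarCont X
  obtain ⟨e, -⟩ := GaLin11.exists_H_Ga_addEquiv X n
  exact e.toEquiv.subsingleton

theorem good_ci (p : ℕ) [Fact p.Prime] [CharP k p] (hc : c + 1 ≤ N) (ha : ∀ j, 1 ≤ a j)
    [SmoothOfRelativeDimension (N - c) ((LefPen.ciIdeal G).subschemeι ≫ CohB1.ProjSpace.toSpec N k)]
    [PreservesFiniteLimits (EtCoh.pull (LefPen.ciIdeal G).subschemeι)] :
    Good (LefPen.ciIdeal G).subschemeι (N - c - 1) (EtCoh.const (CohB1.ProjSpace N k) (ZMod p)) := by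
  have hdim := dim_eq G (by omega : c ≤ N) ha
  have h1 : 1 ≤ N - c := by omega
  let ι := (LefPen.ciIdeal G).subschemeι
  let P := CohB1.ProjSpace N k
  have hk : (p : Γ(Spec (CommRingCat.of k), ⊤)) = 0 := by
    have := congrArg (Scheme.ΓSpecIso (CommRingCat.of k)).inv.hom (CharP.cast_eq_zero k p)
    rwa [map_natCast, map_zero] at this
  have hP : (p : Γ(P, ⊤)) = 0 := by
    have := congrArg (CohB1.ProjSpace.toSpec N k).appTop.hom hk
    rwa [map_natCast, map_zero] at this
  have hX : (p : Γ((LefPen.ciIdeal G).subscheme, ⊤)) = 0 := by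
    have := congrArg ι.appTop.hom hP
    rwa [map_natCast, map_zero] at this
  have hiota : Function.Bijective ι.appTop := by
    have h := GrLib8.CICoh.bijective_appTop G (by omega) ha hdim h1
    rw [Scheme.Hom.comp_appTop] at h
    exact (Function.Bijective.of_comp_iff ι.appTop.hom
      (PnCoh.bijective_toSpecR_appTop (ι := Fin (N + 1)) (R := k))).1 h
  refine Hpull_const_zmod ι p hP hX (N - c - 1) (aq_zero_bijective ι hiota) (fun q h1q _ => ?_) fun q h1q hq => ?_
  · obtain ⟨r, rfl⟩ : ∃ r, q = r + 1 := ⟨q - 1, by omega⟩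
    exact subsingleton_H_Ga _ (PnCoh.subsingleton_HH_structureModule (ι := Fin (N + 1)) (R := k)
      (PnCoh.isQCoh_structureModule _) r)
  · refine subsingleton_H_Ga _ ?_
    obtain ⟨e⟩ := exists_tw_zero (k := k) (n := N)
    obtain ⟨e'⟩ := PicClLib.nonempty_pullback_structureModule ι
    exact QCoh.subsingleton_HH_of_iso ((Scheme.Modules.pullback ι).mapIso e ≪≫ e') q
      (GrLib8.CICoh.subsingleton_HH G (by omega) ha hdim 0 q h1q (by omega))

end Groth.Agent.PadicLef11
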