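import Groth.Agent.PadicLef11.ASPull
import Groth.Agent.PadicLef11.ZModPow

/-!
# Artin–Schreier five lemma for pullback
-/

set_option autoImplicit false
universe u

open CategoryTheory CategoryTheory.Limits AlgebraicGeometry Opposite CategoryTheory.Abelian

namespace Groth.Agent.PadicLef11

open Groth.Agent.EtLC12 Groth.Agent.EtLimit W4c5etcohweilstudent

set_option backward.isDefEq.respectTransparency false
set_option backward.isDefEq.respectTransparency.types false
set_option linter.style.haveILetI false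

variable {X Y : Scheme.{u}} (u : Y ⟶ X) (p : ℕ) [Fact p.Prime] (hX : (p : Γ(X, ⊤)) = 0) (hY : (p : Γ(Y, ⊤)) = 0)
  [PreservesFiniteLimits (EtCoh.pull u)]

include hX hY in
/-- Pullback of `ℤ/p`-classes is bijective below `d` and injective up to `d` if it is so on `G_a`. -/
theorem Hpull_const_zmod_of_aq (d : ℕ) (hi : ∀ q, q ≤ d → Function.Injective (aq u q))
    (hb : ∀ q, q < d → Function.Surjective (aq u q)) :
    (∀ q, q < d → Function.Bijective (EtCore.Hpull u (EtCoh.const X (ZMod p)) q)) ∧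
      (∀ q, q ≤ d → Function.Injective (EtCore.Hpull u (EtCoh.const X (ZMod p)) q)) := by
  have hSX := ArtinSchreier.shortExact_kernel (X := X) p hX
  have hSY := ArtinSchreier.shortExact_kernel (X := Y) p hY
  let T := fun q => hThen u (kernel (ArtinSchreier.as p hX)) (kerP u p hX hY) q
  have hι : ∀ q x, aq u q (hmap (kernel.ι (ArtinSchreier.as p hX)) q x) =
      hmap (kernel.ι (ArtinSchreier.as p hY)) q (T q x) := fun q x =>
    HpullThen_hmap u (kerP u p hX hY) (gaP u) _ _ (kerP_ι u p hX hY).symm q x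
  have has : ∀ q x, aq u q (hmap (ArtinSchreier.as p hX) q x) = hmap (ArtinSchreier.as p hY) q (aq u q x) :=
    fun q x => HpullThen_hmap u (gaP u) (gaP u) _ _ (as_gaP u p hX hY) q x
  have hd : ∀ q x, T (q + 1) (hδ hSX rfl x) = hδ hSY rfl (aq u q x) := fun q x =>
    HpullThen_hδ u hSX hSY (kerP u p hX hY) (gaP u) (gaP u) (kerP_ι u p hX hY) (as_gaP u p hX hY).symm rfl x
  have key : ∀ q, q ≤ d → Function.Injective (T q) ∧ (q < d → Function.Surjective (T q)) := by
    intro q hq
    refine ⟨(injective_iff_map_eq_zero _).2 fun x hx => ?_, fun hq' y => ?_⟩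
    · have h1 : hmap (kernel.ι (ArtinSchreier.as p hX)) q x = 0 := hi q hq (by rw [hι, hx, map_zero, map_zero])
      obtain _ | r := q
      · exact hmap_zero_injective _ (h1.trans (map_zero _).symm)
      · obtain ⟨z, rfl⟩ := exists_hδ_of_hmap_eq_zero hSX (rfl : r + 1 = r + 1) x h1
        obtain ⟨w, hw⟩ := exists_hmap_of_hδ_eq_zero hSY rfl (aq u r z) ((hd r z).symm.trans hx)
        obtain ⟨w', rfl⟩ := hb r (by omega) w
        have : hmap (ArtinSchreier.as p hX) r w' = z := hi r (by omega) ((has r w').trans hw)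
        rw [← this]
        exact hδ_hmap_g hSX rfl w'
    · obtain ⟨x, hx⟩ := hb q hq' (hmap (kernel.ι (ArtinSchreier.as p hY)) q y)
      have hx0 : hmap (ArtinSchreier.as p hX) q x = 0 := hi q hq (by
        rw [map_zero, has, hx, hmap_comp]
        exact (congrArg (fun f => hmap f q y) (kernel.condition _)).trans (hmap_zero_map q y))
      obtain ⟨x', rfl⟩ := exists_hmap_of_hmap_eq_zero hSX q x hx0
      have hy' : hmap (kernel.ι (ArtinSchreier.as p hY)) q (y - T q x') = 0 := by
        rw [map_sub, ← hx, hι, sub_self]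
      obtain _ | r := q
      · exact ⟨x', (sub_eq_zero.1 (hmap_zero_injective _ (hy'.trans (map_zero _).symm))).symm⟩
      · obtain ⟨z, hz⟩ := exists_hδ_of_hmap_eq_zero hSY (rfl : r + 1 = r + 1) _ hy'
        obtain ⟨z', rfl⟩ := hb r (by omega) z
        exact ⟨x' + hδ hSX rfl z', by rw [map_add, hd r z', hz, add_sub_cancel]⟩
  have tr : ∀ q, (Function.Injective (T q) → Function.Injective (EtCore.Hpull u (EtCoh.const X (ZMod p)) q)) ∧
      (Function.Surjective (T q) → Function.Surjective (EtCore.Hpull u (EtCoh.const X (ZMod p)) q)) := by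
    intro q
    let eX := ((EtCoh.HF X q).mapIso (asIso (ArtinSchreier.constToKer (X := X) p hX))).addCommGroupIsoToAddEquiv
    let eY := ((EtCoh.HF Y q).mapIso (EtCore.pullConst u (ZMod p) ≪≫
      asIso (ArtinSchreier.constToKer (X := Y) p hY))).addCommGroupIsoToAddEquiv
    have h : ∀ x, T q (eX x) = eY (EtCore.Hpull u (EtCoh.const X (ZMod p)) q x) := fun x =>
      (HpullThen_natural u ((EtCore.pullConst u (ZMod p)).hom ≫ ArtinSchreier.constToKer p hY) (kerP u p hX hY)
        (ArtinSchreier.constToKer p hX) (𝟙 _) ((constToKer_kerP u p hX hY).trans (Category.comp_id _).symm) q x).trans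
        (Ext.comp_mk₀_id _)
    refine ⟨fun hi a b hab => eX.injective (hi (by rw [h, h, hab])), fun hs y => ?_⟩
    obtain ⟨x, hx⟩ := hs (eY y)
    obtain ⟨x', rfl⟩ := eX.surjective x
    exact ⟨x', eY.injective ((h x').symm.trans hx)⟩
  exact ⟨fun q hq => ⟨(tr q).1 (key q hq.le).1, (tr q).2 ((key q hq.le).2 hq)⟩, fun q hq => (tr q).1 (key q hq).1⟩

/-- injectivity in degree zero from `ℤ/p` to `ℤ/p^m` -/
theorem injective_zmod_pow_zero (hp : p ≠ 0) (h : Function.Injective (EtCore.Hpull u (EtCoh.const X (ZMod p)) 0)) :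
    ∀ m : ℕ, 1 ≤ m → Function.Injective (EtCore.Hpull u (EtCoh.const X (ZMod (p ^ m))) 0) := by
  intro m hm
  induction m, hm using Nat.le_induction with
  | base => rwa [pow_one]
  | succ m _ ih =>
    obtain ⟨S, hS, h1, h2, h3⟩ := exists_const_ses (X := X) p (p ^ m) (pow_ne_zero m hp)
    rw [pow_succ', ← h2]
    haveI := hS.mono_f
    have hT := hS.map_of_exact (EtCoh.pull u)
    haveI := hT.mono_f
    refine (injective_iff_map_eq_zero _).2 fun x hx => ?_
    have hg0 : x.comp (Ext.mk₀ S.g) (add_zero 0) = 0 := by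
      refine (h3 ▸ ih : Function.Injective (EtCore.Hpull u S.X₃ 0)) ?_
      rw [map_zero, EtLimit.Hpull_comp_mk₀, hx, Ext.zero_comp]
    obtain ⟨y, rfl⟩ := Ext.covariant_sequence_exact₂ _ hS x hg0
    rw [EtLimit.Hpull_comp_mk₀] at hx
    have h4 : EtCore.Hpull u S.X₁ 0 y = 0 := EtLimit.hmap_zero_injective (S.map (EtCoh.pull u)).f
      (hx.trans (map_zero (EtLimit.hmap (S.map (EtCoh.pull u)).f 0)).symm)
    rw [(h1 ▸ h : Function.Injective (EtCore.Hpull u S.X₁ 0)) (h4.trans (map_zero _).symm), Ext.zero_comp]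

end Groth.Agent.PadicLef11
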